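import Groth.Agent.AlgGrp.K916.LieProd

/-!
# Lie algebras of `N · M` with `M` central

Let `G` be a group scheme, `N` and `M` subgroup schemes with `M` central and `Lie G = Lie N + Lie M`. Then `Lie G`
is the Lie algebra of `N × V` for a vector group `V`.
-/

set_option autoImplicit false

universe u

open CategoryTheory MonoidalCategory CartesianMonoidalCategory MonObj GrpObj AlgebraicGeometry
open CategoryTheory.Limits

namespace K916.LieAff

open LieS K916.LieProd K988.LieBrk

variable {k : Type u} [Field k] {S : Scheme.{u}} {f : Spec (CommRingCat.of k) ⟶ S}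
  {g : Type u} [LieRing g] [LieAlgebra k g]
  {G N M : Over S} [GrpObj G] [GrpObj N] [GrpObj M] (m : LieS.Model G k f g)

/-- The subspace of `g` corresponding to the Lie algebra of `N`. -/
def sub (i : N ⟶ G) [IsMonHom i] : Submodule k g where
  carrier := {x | ∃ w : Lie N k f, LieS.map k f i w = m.e (Multiplicative.ofAdd x)}
  add_mem' := by
    rintro x y ⟨v, hv⟩ ⟨w, hw⟩
    exact ⟨v * w, by rw [map_mul, hv, hw, ofAdd_add, map_mul]⟩
  zero_mem' := ⟨1, by rw [map_one, ofAdd_zero, map_one]⟩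
  smul_mem' := by
    rintro b x ⟨v, hv⟩
    exact ⟨b • v, by rw [lie_map_smul, hv, m.e_smul]⟩

lemma mem_sub {i : N ⟶ G} [IsMonHom i] {x : g} :
    x ∈ sub m i ↔ ∃ w : Lie N k f, LieS.map k f i w = m.e (Multiplicative.ofAdd x) := Iff.rfl

/-- the bracket corresponds to the bracket -/
lemma lie_of_map {i : N ⟶ G} [IsMonHom i] {x y : g} {v w z : Lie N k f}
    (hv : LieS.map k f i v = m.e (Multiplicative.ofAdd x))
    (hw : LieS.map k f i w = m.e (Multiplicative.ofAdd y)) (hz : IsBracket N k f v w z) :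
    LieS.map k f i z = m.e (Multiplicative.ofAdd ⁅x, y⁆) := by
  have h1 := isBracket_map f i hz
  rw [hv, hw] at h1
  exact isBracket_unique f G _ _ _ _ h1 (m.e_lie x y)

lemma lie_mem {i : N ⟶ G} [IsMonHom i] {x y : g} (hx : x ∈ sub m i) (hy : y ∈ sub m i) :
    ⁅x, y⁆ ∈ sub m i := by
  obtain ⟨v, hv⟩ := hx
  obtain ⟨w, hw⟩ := hy
  exact ⟨brk f N v w, lie_of_map m hv hw (isBracket_brk f N v w)⟩

/-- the Lie algebra of a central subgroup is central -/
lemma lie_eq_zero (j : M ⟶ G) [IsMonHom j]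
    (hj : ∀ (T : Over S) (a : T ⟶ M) (b : T ⟶ G), (a ≫ j) * b = b * (a ≫ j)) {x : g}
    (hx : x ∈ sub m j) (y : g) : ⁅x, y⁆ = 0 := by
  obtain ⟨v, hv⟩ := hx
  have h1 : IsBracket G k f (m.e (Multiplicative.ofAdd x)) (m.e (Multiplicative.ofAdd y)) 1 := by
    apply isBracket_one_of_comm
    intro T a b
    rw [← hv, map_val, ← Category.assoc, hj]
  have h2 := isBracket_unique f G _ _ _ _ h1 (m.e_lie x y)
  have h3 : m.e 1 = m.e (Multiplicative.ofAdd ⁅x, y⁆) := by rw [map_one]; exact h2
  exact (congrArg Multiplicative.toAdd (m.e.injective h3)).symm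

/-- a lift to the Lie algebra of `N` -/
noncomputable def lft {i : N ⟶ G} [IsMonHom i] (x : ↥(sub m i)) : Lie N k f :=
  ((mem_sub m).1 x.2).choose

lemma map_lft {i : N ⟶ G} [IsMonHom i] (x : ↥(sub m i)) :
    LieS.map k f i (lft m x) = m.e (Multiplicative.ofAdd (x : g)) :=
  ((mem_sub m).1 x.2).choose_spec

/-- the isomorphism from the subspace onto the Lie algebra of `N` -/
noncomputable def subEquiv (i : N ⟶ G) [IsMonHom i] [Mono i] :
    Multiplicative ↥(sub m i) ≃* Lie N k f :=
  MulEquiv.ofBijective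
    ({ toFun := fun x => lft m (Multiplicative.toAdd x)
       map_one' := by
        apply map_injective f i
        refine (map_lft m (0 : ↥(sub m i))).trans ?_
        rw [map_one (LieS.map k f i)]
        exact map_one m.e
       map_mul' := fun x y => by
        apply map_injective f i
        refine (map_lft m (x.toAdd + y.toAdd)).trans ?_
        rw [map_mul (LieS.map k f i), map_lft, map_lft, ← map_mul m.e]
        rfl } : Multiplicative ↥(sub m i) →* Lie N k f) (by
    constructor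
    · intro x y h
      have h1 : LieS.map k f i (lft m x.toAdd) = LieS.map k f i (lft m y.toAdd) := congrArg _ h
      rw [map_lft, map_lft] at h1
      have h3 := congrArg Multiplicative.toAdd (m.e.injective h1)
      exact congrArg Multiplicative.ofAdd (Subtype.ext h3)
    · intro w
      have hw : (m.e.symm (LieS.map k f i w)).toAdd ∈ sub m i :=
        ⟨w, by rw [ofAdd_toAdd, MulEquiv.apply_symm_apply]⟩
      refine ⟨Multiplicative.ofAdd ⟨_, hw⟩, ?_⟩
      apply map_injective f i
      refine (map_lft m _).trans ?_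
      change m.e (Multiplicative.ofAdd (m.e.symm (LieS.map k f i w)).toAdd) = _
      rw [ofAdd_toAdd, MulEquiv.apply_symm_apply])

lemma map_subEquiv (i : N ⟶ G) [IsMonHom i] [Mono i] (x : ↥(sub m i)) :
    LieS.map k f i (subEquiv m i (Multiplicative.ofAdd x)) = m.e (Multiplicative.ofAdd (x : g)) :=
  map_lft m x

include m in
/-- **`Lie G` is the Lie algebra of `N × V`.** -/
theorem exists_model [Module.Finite k g] (i : N ⟶ G) [IsMonHom i] [Mono i] [IsAffineHom N.hom]
    [LocallyOfFiniteType N.hom] (j : M ⟶ G) [IsMonHom j]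
    (hj : ∀ (T : Over S) (a : T ⟶ M) (b : T ⟶ G), (a ≫ j) * b = b * (a ≫ j))
    (hs : ∀ v : Lie G k f, ∃ (a : Lie N k f) (b : Lie M k f), LieS.map k f i a * LieS.map k f j b = v) :
    ∃ (L : Over S) (_ : GrpObj L), IsAffineHom L.hom ∧ LocallyOfFiniteType L.hom ∧
      Nonempty (LieS.Model L k f g) := by
  -- linear algebra
  have htop : sub m i ⊔ sub m j = ⊤ := by
    rw [eq_top_iff]
    intro x _
    obtain ⟨a, b, hab⟩ := hs (m.e (Multiplicative.ofAdd x))
    rw [Submodule.mem_sup]
    refine ⟨(m.e.symm (LieS.map k f i a)).toAdd, ⟨a, by rw [ofAdd_toAdd, MulEquiv.apply_symm_apply]⟩,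
      (m.e.symm (LieS.map k f j b)).toAdd, ⟨b, by rw [ofAdd_toAdd, MulEquiv.apply_symm_apply]⟩, ?_⟩
    rw [← toAdd_mul, ← map_mul, hab, MulEquiv.symm_apply_apply, toAdd_ofAdd]
  obtain ⟨b, hb⟩ := exists_isCompl (sub m i ⊓ sub m j)
  have hc : IsCompl (sub m i) (b ⊓ sub m j) := by
    constructor
    · rw [disjoint_iff, ← inf_assoc, inf_right_comm]
      exact disjoint_iff.1 hb.disjoint
    · rw [codisjoint_iff]
      have h1 : sub m j ≤ sub m i ⊔ b ⊓ sub m j := by
        calc sub m j = (sub m i ⊓ sub m j ⊔ b) ⊓ sub m j := by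
              rw [codisjoint_iff.1 hb.codisjoint, top_inf_eq]
          _ = sub m i ⊓ sub m j ⊔ b ⊓ sub m j := sup_inf_assoc_of_le b inf_le_right
          _ ≤ sub m i ⊔ b ⊓ sub m j := sup_le_sup_right inf_le_left _
      rw [eq_top_iff, ← htop]
      exact sup_le le_sup_left h1
  set a := b ⊓ sub m j with ha
  have hacen : ∀ z ∈ a, ∀ y : g, ⁅z, y⁆ = 0 := fun z hz y => lie_eq_zero m j hj hz.2 y
  have hacen' : ∀ z ∈ a, ∀ y : g, ⁅y, z⁆ = 0 := fun z hz y => by
    rw [← lie_skew, hacen z hz, neg_zero]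
  -- the vector group
  obtain ⟨V, _, hV1, hV2, hV3, eV, heV⟩ := exists_vec (S := S) f (Module.finrank k ↥a)
  let φ : ↥a ≃ₗ[k] (Fin (Module.finrank k ↥a) → k) := (Module.finBasis k ↥a).equivFun
  let ψ := Submodule.prodEquivOfIsCompl _ _ hc
  -- the two coordinates
  let p1 : g →ₗ[k] ↥(sub m i) := LinearMap.fst k _ _ ∘ₗ ψ.symm.toLinearMap
  let p2 : g →ₗ[k] (Fin (Module.finrank k ↥a) → k) := φ.toLinearMap ∘ₗ LinearMap.snd k _ _ ∘ₗ ψ.symm.toLinearMap
  let e1 : Multiplicative g ≃* Lie N k f × Lie V k f :=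
    { toFun := fun x => (subEquiv m i (Multiplicative.ofAdd (p1 x.toAdd)), eV (Multiplicative.ofAdd (p2 x.toAdd)))
      invFun := fun q => Multiplicative.ofAdd (ψ (((subEquiv m i).symm q.1).toAdd,
        φ.symm ((eV.symm q.2).toAdd)))
      left_inv := fun x => by
        change Multiplicative.ofAdd (ψ (((subEquiv m i).symm (subEquiv m i (Multiplicative.ofAdd (p1 x.toAdd)))).toAdd,
          φ.symm ((eV.symm (eV (Multiplicative.ofAdd (p2 x.toAdd)))).toAdd))) = x
        rw [MulEquiv.symm_apply_apply, MulEquiv.symm_apply_apply, toAdd_ofAdd, toAdd_ofAdd]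
        change Multiplicative.ofAdd (ψ ((ψ.symm x.toAdd).1, φ.symm (φ (ψ.symm x.toAdd).2))) = x
        rw [LinearEquiv.symm_apply_apply]
        exact congrArg Multiplicative.ofAdd (ψ.apply_symm_apply x.toAdd)
      right_inv := fun q => by
        refine Prod.ext ?_ ?_
        · change subEquiv m i (Multiplicative.ofAdd (ψ.symm (ψ (((subEquiv m i).symm q.1).toAdd,
            φ.symm ((eV.symm q.2).toAdd)))).1) = q.1
          rw [LinearEquiv.symm_apply_apply, ofAdd_toAdd, MulEquiv.apply_symm_apply]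
        · change eV (Multiplicative.ofAdd (φ (ψ.symm (ψ (((subEquiv m i).symm q.1).toAdd,
            φ.symm ((eV.symm q.2).toAdd)))).2)) = q.2
          rw [LinearEquiv.symm_apply_apply, LinearEquiv.apply_symm_apply, ofAdd_toAdd,
            MulEquiv.apply_symm_apply]
      map_mul' := fun x y => by
        refine Prod.ext ?_ ?_
        · change subEquiv m i (Multiplicative.ofAdd (p1 (x.toAdd + y.toAdd))) = subEquiv m i _ * subEquiv m i _
          rw [map_add, ofAdd_add, map_mul]
        · change eV (Multiplicative.ofAdd (p2 (x.toAdd + y.toAdd))) = eV _ * eV _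
          rw [map_add, ofAdd_add, map_mul] }
  have hVft : LocallyOfFiniteType V.hom := inferInstance
  have hL : LocallyOfFiniteType (N ⊗ V).hom := by
    rw [Over.tensorObj_hom]; infer_instance
  refine ⟨N ⊗ V, inferInstance, affine_prod _ _, hL, ⟨⟨e1.trans (prodEquiv f), fun c x => ?_, fun x y => ?_⟩⟩⟩
  · change prodEquiv f (subEquiv m i (Multiplicative.ofAdd (p1 (c • x))), eV (Multiplicative.ofAdd (p2 (c • x)))) =
      c • prodEquiv f (subEquiv m i (Multiplicative.ofAdd (p1 x)), eV (Multiplicative.ofAdd (p2 x)))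
    have h1 : subEquiv m i (Multiplicative.ofAdd (p1 (c • x))) =
        c • subEquiv m i (Multiplicative.ofAdd (p1 x)) := by
      apply map_injective f i
      rw [map_subEquiv, lie_map_smul, map_subEquiv, map_smul, Submodule.coe_smul, m.e_smul]
    rw [h1, map_smul, heV, prodEquiv_smul]
  · -- the bracket
    have hx : ∀ x : g, ∃ z ∈ a, x = (p1 x : g) + z := fun x =>
      ⟨(ψ.symm x).2, (ψ.symm x).2.2, by
        have h1 := ψ.apply_symm_apply x
        rw [Submodule.coe_prodEquivOfIsCompl'] at h1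
        exact h1.symm⟩
    have hxy : ⁅x, y⁆ = ⁅(p1 x : g), (p1 y : g)⁆ := by
      obtain ⟨z, hz, h1⟩ := hx x
      obtain ⟨w, hw, h2⟩ := hx y
      conv_lhs => rw [h1, h2]
      rw [add_lie, hacen z hz, add_zero, lie_add, hacen' w hw, add_zero]
    have hmem : ⁅x, y⁆ ∈ sub m i := by
      rw [hxy]; exact lie_mem m (p1 x).2 (p1 y).2
    have hp1 : (p1 ⁅x, y⁆ : g) = ⁅(p1 x : g), (p1 y : g)⁆ := by
      rw [← hxy]
      have h1 : ψ.symm ⁅x, y⁆ = (⟨_, hmem⟩, 0) := Submodule.prodEquivOfIsCompl_symm_apply_left _ _ hc ⟨_, hmem⟩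
      change ((ψ.symm ⁅x, y⁆).1 : g) = _
      rw [h1]
    have hp2 : p2 ⁅x, y⁆ = 0 := by
      have h1 : ψ.symm ⁅x, y⁆ = (⟨_, hmem⟩, 0) := Submodule.prodEquivOfIsCompl_symm_apply_left _ _ hc ⟨_, hmem⟩
      change φ (ψ.symm ⁅x, y⁆).2 = 0
      rw [h1, map_zero]
    apply isBracket_prod
    · change IsBracket N k f (LieS.map k f (fst N V) (prodEquiv f _)) (LieS.map k f (fst N V) (prodEquiv f _))
        (LieS.map k f (fst N V) (prodEquiv f _))
      rw [map_fst_prodEquiv, map_fst_prodEquiv, map_fst_prodEquiv]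
      change IsBracket N k f (subEquiv m i (Multiplicative.ofAdd (p1 x)))
        (subEquiv m i (Multiplicative.ofAdd (p1 y))) (subEquiv m i (Multiplicative.ofAdd (p1 ⁅x, y⁆)))
      have h1 := isBracket_brk f N (subEquiv m i (Multiplicative.ofAdd (p1 x)))
        (subEquiv m i (Multiplicative.ofAdd (p1 y)))
      have h2 := lie_of_map m (map_subEquiv m i (p1 x)) (map_subEquiv m i (p1 y)) h1
      rw [← hp1, ← map_subEquiv m i] at h2
      rw [← map_injective f i h2]
      exact h1
    · change IsBracket V k f (LieS.map k f (snd N V) (prodEquiv f _)) (LieS.map k f (snd N V) (prodEquiv f _))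
        (LieS.map k f (snd N V) (prodEquiv f _))
      rw [map_snd_prodEquiv, map_snd_prodEquiv, map_snd_prodEquiv]
      change IsBracket V k f (eV (Multiplicative.ofAdd (p2 x)))
        (eV (Multiplicative.ofAdd (p2 y))) (eV (Multiplicative.ofAdd (p2 ⁅x, y⁆)))
      rw [hp2, ofAdd_zero, map_one]
      exact isBracket_one_of_comm f _ _ fun T c d => hV3 _ _ _

end K916.LieAff
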