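import Groth.Agent.AlgGrp.K916.LieAff
import Groth.Agent.AlgGrp.K400.LieTriv
import Groth.Agent.AlgGrp.K414.RosQ
import Groth.Agent.AlgGrp.K398.QuasiCompl
import Groth.Agent.Sga3.H219.NeutralK
import Groth.Agent.Sga3B.KerGrp
import Groth.Agent.S0353
import Groth.Agent.S4141
import Groth.Agent.S8003

/-!
# Lie algebras of group schemes in characteristic zero are Lie algebras of affine groups
-/

set_option autoImplicit false

universe u

open CategoryTheory MonoidalCategory CartesianMonoidalCategory MonObj GrpObj AlgebraicGeometry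
open CategoryTheory.Limits

namespace K916.LieChar0

open LieS K916.LieProd K916.LieAff K988.LieBrk Groth.Agent

/-- Transport of a model along a homomorphism which is bijective on Lie algebras. -/
theorem nonempty_model {B : Type u} [CommRing B] {S : Scheme.{u}} {f : Spec (CommRingCat.of B) ⟶ S}
    {g : Type u} [LieRing g] [LieAlgebra B g] {G U : Over S} [GrpObj G] [GrpObj U]
    (m : LieS.Model G B f g) (u : U ⟶ G) [IsMonHom u]
    (hu : Function.Bijective (LieS.map B f u)) : Nonempty (LieS.Model U B f g) := by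
  let e := m.e.trans (MulEquiv.ofBijective (LieS.map B f u) hu).symm
  have he : ∀ x, LieS.map B f u (e x) = m.e x := fun x =>
    (MulEquiv.ofBijective (LieS.map B f u) hu).apply_symm_apply (m.e x)
  refine ⟨⟨e, fun b x => ?_, fun x y => ?_⟩⟩
  · apply hu.1
    rw [he, lie_map_smul, he, m.e_smul]
  · have h1 := isBracket_brk f U (e (Multiplicative.ofAdd x)) (e (Multiplicative.ofAdd y))
    have h2 := isBracket_map f u h1
    rw [he, he] at h2
    have h3 := isBracket_unique f G _ _ _ _ h2 (m.e_lie x y)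
    rw [← he] at h3
    rw [← hu.1 h3]
    exact h1

/-- The Lie algebra only sees an open subgroup. -/
theorem bijective_map_of_open {k : Type u} [Field k] {G U : Over (Spec (CommRingCat.of k))} [GrpObj G]
    [GrpObj U] (u : U ⟶ G) [IsMonHom u] [IsOpenImmersion u.left] :
    Function.Bijective (LieS.map k (𝟙 (Spec (CommRingCat.of k))) u) := by
  have hum : Mono u := (Over.forget _).mono_of_mono_map (inferInstanceAs (Mono u.left))
  refine ⟨map_injective _ u, fun v => ?_⟩
  have hv0 : LieS.zeroSec k (𝟙 (Spec (CommRingCat.of k))) ≫ v.1 = 1 := v.2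
  have hsub : Set.range v.1.left ⊆ Set.range u.left := by
    rintro _ ⟨x, rfl⟩
    have ho : IsOpen (Set.range u.left) := u.left.isOpenEmbedding.isOpen_range
    let c : ↥(Spec (CommRingCat.of (DualNumber k))) := IsLocalRing.closedPoint (DualNumber k)
    have h1 : (x : ↥(Spec (CommRingCat.of (DualNumber k)))) ⤳ c :=
      IsLocalRing.specializes_closedPoint (R := DualNumber k) x
    have h2 : v.1.left x ⤳ v.1.left c := h1.map v.1.left.continuous
    refine h2.mem_open ho ?_
    let y : ↥(Spec (CommRingCat.of k)) := IsLocalRing.closedPoint k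
    have h3 : (LieS.zeroSec k (𝟙 (Spec (CommRingCat.of k)))).left y = c := by
      have hloc : IsLocalHom (TrivSqZeroExt.fstHom k k k).toRingHom := by
        refine ⟨fun a ha => ?_⟩
        rw [TrivSqZeroExt.isUnit_iff_isUnit_fst]
        exact ha
      exact IsLocalRing.comap_closedPoint (TrivSqZeroExt.fstHom k k k).toRingHom
    have h4 : v.1.left c = (LieS.zeroSec k (𝟙 (Spec (CommRingCat.of k))) ≫ v.1).left y := by
      rw [← h3]
      rfl
    rw [h4, hv0]
    have h5 : (1 : LieS.pt k (𝟙 (Spec (CommRingCat.of k))) ⟶ G) =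
        (1 : LieS.pt k (𝟙 (Spec (CommRingCat.of k))) ⟶ U) ≫ u := (MonObj.one_comp u).symm
    rw [h5]
    exact ⟨(1 : LieS.pt k (𝟙 (Spec (CommRingCat.of k))) ⟶ U).left y, rfl⟩
  let v' : LieS.dpt k (𝟙 (Spec (CommRingCat.of k))) ⟶ U :=
    Over.homMk (IsOpenImmersion.lift u.left v.1.left hsub) (by
      rw [← Over.w u, ← Category.assoc, IsOpenImmersion.lift_fac, Over.w])
  have hv' : v' ≫ u = v.1 := by
    ext1
    exact IsOpenImmersion.lift_fac _ _ _
  refine ⟨⟨v', ?_⟩, Subtype.ext hv'⟩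
  rw [LieS.mem_Lie_iff, ← cancel_mono u, Category.assoc, hv', MonObj.one_comp]
  exact hv0

/-- The case of smooth connected groups. -/
theorem conn {k : Type u} [Field k] [CharZero k] (g : Type u) [LieRing g] [LieAlgebra k g]
    [Module.Finite k g] (G : Over (Spec (CommRingCat.of k))) [GrpObj G] [Smooth G.hom]
    [QuasiCompact G.hom] [ConnectedSpace ↥G.left]
    (m : LieS.Model G k (𝟙 (Spec (CommRingCat.of k))) g) :
    ∃ (L : Over (Spec (CommRingCat.of k))) (_ : GrpObj L), IsAffineHom L.hom ∧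
      LocallyOfFiniteType L.hom ∧ Nonempty (LieS.Model L k (𝟙 (Spec (CommRingCat.of k))) g) := by
  obtain ⟨N, _, l, Q, _, q, hl, hlc, hNa, hNs, hNc, -, hq, hqs, hqf, hk, hQp, -, -, -⟩ :=
    Groth.Agent.S4141.result k G
  obtain ⟨M, _, j, hj, hjc, hMf, hMq, hM, hs⟩ := K414.RosQ.exists_antiAffine_surjective q
  have hjmon : IsMonHom j := hj
  have hcen : ∀ (T : Over (Spec (CommRingCat.of k))) (x : T ⟶ M) (g : T ⟶ G),
      (x ≫ j) * g = g * (x ≫ j) := fun T x g => K414.RosQ.central η[M] j (IsMonHom.one_hom j) x g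
  have hlm : Mono l := Groth.Agent.Books.AlgPtsGrp.mono_of_isClosedImmersion l
  have hmul : IsMonHom ((l ⊗ₘ j) ≫ μ[G]) :=
    K398.QuasiCompl.isMonHom_mul l j fun T a n => (hcen T n (a ≫ l)).symm
  have hsurj : Surjective ((l ⊗ₘ j) ≫ μ[G]).left := K414.RosQ.surjective_mul l q hk j hs
  have hMs : Smooth M.hom := Groth.Agent.S0353.result k M
  have hNf : LocallyOfFiniteType N.hom := inferInstance
  have hNq : QuasiCompact N.hom := by
    rw [← Over.w l]; infer_instance
  have hNM : Smooth (N ⊗ M).hom := by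
    rw [Over.tensorObj_hom]; infer_instance
  have hNMq : QuasiCompact (N ⊗ M).hom := by
    rw [Over.tensorObj_hom]; infer_instance
  have hNMf : LocallyOfFiniteType (N ⊗ M).hom := inferInstance
  obtain ⟨_, _⟩ := Groth.Agent.Sga3B.KerGrp.exists_grpObj ((l ⊗ₘ j) ≫ μ[G])
  have hGsep : IsSeparated G.hom := Groth.Agent.Books.AntiAffine.isSeparated_hom G
  have hKf : LocallyOfFiniteType (Groth.Agent.Sga3B.KerGrp.kerObj ((l ⊗ₘ j) ≫ μ[G])).hom := by
    rw [← Over.w (Groth.Agent.Sga3B.KerGrp.kerι ((l ⊗ₘ j) ≫ μ[G]))]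
    infer_instance
  have hKs := Groth.Agent.S0353.result k (Groth.Agent.Sga3B.KerGrp.kerObj ((l ⊗ₘ j) ≫ μ[G]))
  have hsm : Smooth ((l ⊗ₘ j) ≫ μ[G]).left :=
    (Groth.Agent.S8003.result k _ _ _ ((l ⊗ₘ j) ≫ μ[G])
      (Groth.Agent.Sga3B.KerGrp.kerι ((l ⊗ₘ j) ≫ μ[G]))
      (Groth.Agent.Sga3B.KerGrp.isPullback_ker _)).2 hKs
  have hNaff : IsAffineHom N.hom := inferInstance
  refine exists_model m l j hcen fun v => ?_
  obtain ⟨w, hw1, hw2⟩ := K400.LieTriv.exists_lift_dual ((l ⊗ₘ j) ≫ μ[G]) v.1 v.2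
  refine ⟨⟨w ≫ fst N M, ?_⟩, ⟨w ≫ snd N M, ?_⟩, ?_⟩
  · rw [mem_Lie_iff, ← Category.assoc, hw1, MonObj.one_comp]
  · rw [mem_Lie_iff, ← Category.assoc, hw1, MonObj.one_comp]
  · apply Subtype.ext
    change ((w ≫ fst N M) ≫ l) * ((w ≫ snd N M) ≫ j) = v.1
    rw [← hw2, Hom.mul_def, ← Category.assoc]
    congr 1
    ext1 <;> simp

end K916.LieChar0
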