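import Groth.Agent.LieS.K988.Model
import Groth.Agent.Sga3B.GaPts
import Groth.Agent.RedSub.H635.GaSm
import Groth.Agent.RedSub.H633.AffChart

/-!
# Lie algebras of products, of vector groups, and of central subgroups

* `isBracket_map`, `lie_map_smul`, `map_injective`: homomorphisms and the Lie algebra;
* `isBracket_one_of_comm`: commuting points have trivial bracket;
* `prodEquiv`, `isBracket_prod`: the Lie algebra of a product;
* `gaLie`: the Lie algebra of `𝔾_a`;
* `exists_vec`: vector groups.
-/

set_option autoImplicit false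

universe u

open CategoryTheory MonoidalCategory CartesianMonoidalCategory MonObj GrpObj AlgebraicGeometry
open CategoryTheory.Limits

namespace K916.LieProd

open LieS K988.LieCalc K988.LieScale K988.LieInj K988.LieBrk
open Groth.Agent.Sga3B Groth.Agent.Sga3B.GaPts

variable {S : Scheme.{u}} {B : Type u} [CommRing B] (f : Spec (CommRingCat.of B) ⟶ S)
variable {G H : Over S} [GrpObj G] [GrpObj H]

section hom

lemma map_val (φ : G ⟶ H) [IsMonHom φ] (v : Lie G B f) : (LieS.map B f φ v).1 = v.1 ≫ φ := rfl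

lemma lie_map_smul (φ : G ⟶ H) [IsMonHom φ] (b : B) (v : Lie G B f) :
    LieS.map B f φ (b • v) = b • LieS.map B f φ v := by
  apply Subtype.ext
  exact Category.assoc (scale B f b) v.1 φ

lemma map_injective (φ : G ⟶ H) [IsMonHom φ] [Mono φ] : Function.Injective (LieS.map B f φ) :=
  fun _ _ h => Subtype.ext ((cancel_mono φ).1 (congrArg Subtype.val h))

lemma cm_comp (φ : G ⟶ H) [IsMonHom φ] {T : Over S} (a b : T ⟶ G) :
    cm a b ≫ φ = cm (a ≫ φ) (b ≫ φ) := by
  unfold cm
  rw [MonObj.mul_comp, MonObj.mul_comp, MonObj.mul_comp, GrpObj.inv_comp, GrpObj.inv_comp]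

lemma isBracket_map (φ : G ⟶ H) [IsMonHom φ] {x y z : Lie G B f} (h : IsBracket G B f x y z) :
    IsBracket H B f (LieS.map B f φ x) (LieS.map B f φ y) (LieS.map B f φ z) := by
  rw [isBracket_iff] at h ⊢
  rw [map_val, map_val, map_val, ← Category.assoc, h, cm_comp, Category.assoc, Category.assoc]

/-- Commuting points have trivial bracket. -/
lemma isBracket_one_of_comm (x y : Lie G B f)
    (h : ∀ (T : Over S) (a b : T ⟶ dpt B f), (a ≫ x.1) * (b ≫ y.1) = (b ≫ y.1) * (a ≫ x.1)) :
    IsBracket G B f x y 1 := by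
  rw [isBracket_iff, (cm_eq_one_iff _ _).2 (h _ _ _)]
  exact MonObj.comp_one _

end hom

section prod

/-- The Lie algebra of a product. -/
noncomputable def prodEquiv : Lie G B f × Lie H B f ≃* Lie (G ⊗ H) B f where
  toFun p := ⟨lift p.1.1 p.2.1, by
    rw [mem_Lie_iff]
    apply CartesianMonoidalCategory.hom_ext
    · rw [Category.assoc, lift_fst, MonObj.one_comp]; exact p.1.2
    · rw [Category.assoc, lift_snd, MonObj.one_comp]; exact p.2.2⟩
  invFun w := (LieS.map B f (fst G H) w, LieS.map B f (snd G H) w)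
  left_inv p := by
    refine Prod.ext ?_ ?_
    · apply Subtype.ext
      exact lift_fst p.1.1 p.2.1
    · apply Subtype.ext
      exact lift_snd p.1.1 p.2.1
  right_inv w := Subtype.ext (by
    apply CartesianMonoidalCategory.hom_ext
    · exact lift_fst _ _
    · exact lift_snd _ _)
  map_mul' p q := Subtype.ext (by
    change lift (p.1.1 * q.1.1) (p.2.1 * q.2.1) = lift p.1.1 p.2.1 * lift q.1.1 q.2.1
    apply CartesianMonoidalCategory.hom_ext
    · rw [lift_fst, MonObj.mul_comp, lift_fst, lift_fst]
    · rw [lift_snd, MonObj.mul_comp, lift_snd, lift_snd])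

lemma map_fst_prodEquiv (p : Lie G B f × Lie H B f) :
    LieS.map B f (fst G H) (prodEquiv f p) = p.1 := by
  apply Subtype.ext
  exact lift_fst p.1.1 p.2.1

lemma map_snd_prodEquiv (p : Lie G B f × Lie H B f) :
    LieS.map B f (snd G H) (prodEquiv f p) = p.2 := by
  apply Subtype.ext
  exact lift_snd p.1.1 p.2.1

lemma prod_ext {v w : Lie (G ⊗ H) B f} (h1 : LieS.map B f (fst G H) v = LieS.map B f (fst G H) w)
    (h2 : LieS.map B f (snd G H) v = LieS.map B f (snd G H) w) : v = w :=
  (prodEquiv f).symm.injective (by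
    refine Prod.ext ?_ ?_
    · exact h1
    · exact h2)

lemma prodEquiv_smul (b : B) (v : Lie G B f) (w : Lie H B f) :
    prodEquiv f (b • v, b • w) = b • prodEquiv f (v, w) := by
  apply prod_ext
  · rw [map_fst_prodEquiv, lie_map_smul, map_fst_prodEquiv]
  · rw [map_snd_prodEquiv, lie_map_smul, map_snd_prodEquiv]

/-- The bracket of a product. -/
lemma isBracket_prod {x y z : Lie (G ⊗ H) B f}
    (h1 : IsBracket G B f (LieS.map B f (fst G H) x) (LieS.map B f (fst G H) y)
      (LieS.map B f (fst G H) z))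
    (h2 : IsBracket H B f (LieS.map B f (snd G H) x) (LieS.map B f (snd G H) y)
      (LieS.map B f (snd G H) z)) : IsBracket (G ⊗ H) B f x y z := by
  rw [isBracket_iff] at h1 h2 ⊢
  apply CartesianMonoidalCategory.hom_ext
  · rw [cm_comp, Category.assoc, Category.assoc, Category.assoc]; exact h1
  · rw [cm_comp, Category.assoc, Category.assoc, Category.assoc]; exact h2

lemma comm_prod (hG : ∀ (T : Over S) (a b : T ⟶ G), a * b = b * a)
    (hH : ∀ (T : Over S) (a b : T ⟶ H), a * b = b * a) (T : Over S) (a b : T ⟶ G ⊗ H) :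
    a * b = b * a := by
  apply CartesianMonoidalCategory.hom_ext
  · rw [MonObj.mul_comp, MonObj.mul_comp, hG]
  · rw [MonObj.mul_comp, MonObj.mul_comp, hH]

end prod

section ga

/-- functions on the dual numbers -/
noncomputable abbrev γi (C : Type u) [CommRing C] : C →+* Γ(Spec (CommRingCat.of C), ⊤) :=
  (Scheme.ΓSpecIso (CommRingCat.of C)).inv.hom

lemma γi_nat {C C' : Type u} [CommRing C] [CommRing C'] (ψ : C →+* C') (x : C) :
    (Spec.map (CommRingCat.ofHom ψ)).appTop (γi C x) = γi C' (ψ x) :=
  congr($(Scheme.ΓSpecIso_inv_naturality (CommRingCat.ofHom ψ)) x).symm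

lemma γi_bij (C : Type u) [CommRing C] : Function.Bijective (γi C) :=
  ConcreteCategory.bijective_of_isIso (Scheme.ΓSpecIso (CommRingCat.of C)).inv

/-- the tangent vector of `𝔾_a` with coordinate `b` -/
noncomputable def gl (b : B) : Lie (Red.Ga S) B f :=
  ⟨gaPt (dpt B f) (γi (DualNumber B) (TrivSqZeroExt.inr b)), by
    rw [mem_Lie_iff, comp_gaPt]
    apply gaFn_injective
    rw [gaFn_gaPt, gaFn_one]
    refine (γi_nat (TrivSqZeroExt.fstHom B B B).toRingHom (TrivSqZeroExt.inr b)).trans ?_
    exact map_zero (γi B)⟩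

lemma gl_val (b : B) : (gl f b : Lie (Red.Ga S) B f).1 =
    gaPt (dpt B f) (γi (DualNumber B) (TrivSqZeroExt.inr b)) := rfl

lemma gl_bij : Function.Bijective (gl f : B → Lie (Red.Ga S) B f) := by
  constructor
  · intro a b h
    have h1 := congrArg (fun v => Red.gaFn (Subtype.val v)) h
    simp only [gl_val, gaFn_gaPt] at h1
    exact TrivSqZeroExt.inr_injective ((γi_bij (DualNumber B)).1 h1)
  · intro v
    obtain ⟨y, hy⟩ := (γi_bij (DualNumber B)).2 (Red.gaFn v.1)
    have hv : zeroSec B f ≫ v.1 = 1 := v.2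
    have h1 : γi B y.fst = 0 := by
      have h2 : (zeroSec B f).left.appTop (Red.gaFn v.1) = 0 := by
        rw [← gaFn_comp, hv, gaFn_one]
      rw [← hy] at h2
      exact (γi_nat (TrivSqZeroExt.fstHom B B B).toRingHom y).symm.trans h2
    have h3 : y.fst = 0 := (γi_bij B).1 (h1.trans (map_zero _).symm)
    refine ⟨y.snd, Subtype.ext ?_⟩
    rw [gl_val]
    have h4 : (TrivSqZeroExt.inr y.snd : DualNumber B) = y := by
      ext
      · exact h3.symm
      · rfl
    rw [h4]
    change gaPt (dpt B f) (γi (DualNumber B) y) = _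
    rw [hy, gaPt_gaFn]

lemma gl_add (a b : B) : gl f (a + b) = (gl f a * gl f b : Lie (Red.Ga S) B f) := by
  apply Subtype.ext
  have h : γi (DualNumber B) (TrivSqZeroExt.inr (a + b)) =
      γi (DualNumber B) (TrivSqZeroExt.inr a) + γi (DualNumber B) (TrivSqZeroExt.inr b) := by
    rw [TrivSqZeroExt.inr_add, map_add]
  exact (congrArg (gaPt (dpt B f)) h).trans (gaPt_add (dpt B f) _ _)

lemma gl_mul (b a : B) : gl f (b * a) = (b • gl f a : Lie (Red.Ga S) B f) := by
  apply Subtype.ext
  rw [smul_val, gl_val, gl_val, comp_gaPt]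
  congr 1
  refine Eq.trans (congrArg _ ?_) (γi_nat (scaleHom b) (TrivSqZeroExt.inr a)).symm
  rw [scaleHom, dualHom_apply]
  ext
  · simp [TrivSqZeroExt.algebraMap_eq_inl']
  · simp [TrivSqZeroExt.algebraMap_eq_inl', mul_comm]

/-- The Lie algebra of `𝔾_a`. -/
noncomputable def gaLie : Multiplicative B ≃* Lie (Red.Ga S) B f :=
  MulEquiv.ofBijective
    ({ toFun := fun b => gl f (Multiplicative.toAdd b)
       map_one' := by
        have h := gl_add (S := S) f 0 0
        rw [add_zero] at h
        exact (left_eq_mul.1 h)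
       map_mul' := fun a b => gl_add f _ _ } : Multiplicative B →* Lie (Red.Ga S) B f) (gl_bij f)

lemma gaLie_apply (b : B) : gaLie f (Multiplicative.ofAdd b) = (gl f b : Lie (Red.Ga S) B f) := rfl

end ga

section vec

lemma affine_prod (X Y : Over S) [IsAffineHom X.hom] [IsAffineHom Y.hom] :
    IsAffineHom (X ⊗ Y).hom := by
  rw [Over.tensorObj_hom]
  exact MorphismProperty.comp_mem @IsAffineHom _ _ (MorphismProperty.pullback_fst _ _ ‹_›) ‹_›

lemma lfp_prod (X Y : Over S) [LocallyOfFinitePresentation X.hom]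
    [LocallyOfFinitePresentation Y.hom] : LocallyOfFinitePresentation (X ⊗ Y).hom := by
  rw [Over.tensorObj_hom]; infer_instance

/-- Vector groups. -/
theorem exists_vec (r : ℕ) : ∃ (V : Over S) (_ : GrpObj V), IsAffineHom V.hom ∧
    LocallyOfFinitePresentation V.hom ∧ (∀ (T : Over S) (a b : T ⟶ V), a * b = b * a) ∧
      ∃ e : Multiplicative (Fin r → B) ≃* Lie V B f, ∀ (b : B) (x : Fin r → B),
        e (Multiplicative.ofAdd (b • x)) = b • e (Multiplicative.ofAdd x) := by
  induction r with
  | zero =>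
    have hu : ∀ T : Over S, Subsingleton (T ⟶ 𝟙_ (Over S)) := fun T => ⟨toUnit_unique⟩
    refine ⟨𝟙_ (Over S), inferInstance, ?_, ?_, fun T a b => toUnit_unique _ _, ?_⟩
    · exact inferInstanceAs (IsAffineHom (𝟙 S))
    · exact inferInstanceAs (LocallyOfFinitePresentation (𝟙 S))
    · have h1 : Subsingleton (Lie (𝟙_ (Over S)) B f) := ⟨fun a b => Subtype.ext (toUnit_unique _ _)⟩
      have h2 : Subsingleton (Multiplicative (Fin 0 → B)) := inferInstanceAs (Subsingleton (Fin 0 → B))
      exact ⟨⟨⟨fun _ => 1, fun _ => 1, fun _ => Subsingleton.elim _ _, fun _ => Subsingleton.elim _ _⟩,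
        fun _ _ => Subsingleton.elim _ _⟩, fun _ _ => Subsingleton.elim _ _⟩
  | succ r ih =>
    obtain ⟨V, _, h1, h2, h3, e, he⟩ := ih
    have h4 : IsAffineHom (Red.Ga S).hom := Groth.Agent.RedSub.H633.AffChart.isAffineHom_Ga
    have h5 : LocallyOfFinitePresentation (Red.Ga S).hom := by
      have := Groth.Agent.RedSub.H635.GaSm.smooth_ga (S := S)
      infer_instance
    refine ⟨Red.Ga S ⊗ V, inferInstance, ?_, ?_, ?_, ?_⟩
    · exact affine_prod _ _
    · exact lfp_prod _ _
    · refine comm_prod (fun T a b => ?_) h3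
      apply gaFn_injective
      rw [gaFn_mul, gaFn_mul, add_comm]
    · let e1 : (Fin (r + 1) → B) ≃+ B × (Fin r → B) :=
        { toFun := fun x => (x 0, fun i => x i.succ)
          invFun := fun p => Fin.cons p.1 p.2
          left_inv := fun x => by
            funext i
            refine Fin.cases rfl (fun j => rfl) i
          right_inv := fun p => rfl
          map_add' := fun _ _ => rfl }
      let e2 : Multiplicative (Fin (r + 1) → B) ≃* Multiplicative B × Multiplicative (Fin r → B) :=
        { toFun := fun x => (Multiplicative.ofAdd (e1 x.toAdd).1, Multiplicative.ofAdd (e1 x.toAdd).2)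
          invFun := fun p => Multiplicative.ofAdd (e1.symm (p.1.toAdd, p.2.toAdd))
          left_inv := fun x => e1.left_inv x
          right_inv := fun p => rfl
          map_mul' := fun _ _ => rfl }
      refine ⟨(e2.trans ((gaLie f).prodCongr e)).trans (prodEquiv f), fun b x => ?_⟩
      change prodEquiv f (gaLie f (Multiplicative.ofAdd (b * x 0)),
        e (Multiplicative.ofAdd (b • fun i : Fin r => x i.succ))) =
        b • prodEquiv f (gaLie f (Multiplicative.ofAdd (x 0)),
          e (Multiplicative.ofAdd fun i : Fin r => x i.succ))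
      rw [he, gaLie_apply, gaLie_apply, gl_mul, prodEquiv_smul]

end vec

end K916.LieProd
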