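import Groth.Agent.AGF.K493.PerfImg
import Groth.Agent.AGF.K495.RadSch
import Groth.Agent.Red.K216.NormalPts
import Groth.Agent.AGF.K494.RadPt

/-!
# Images of radicals

`K` algebraically closed, groups of points of finitely generated reduced commutative Hopf algebras over `K` (no
connectedness assumption).

* `le_clSub_of_trivial_rad`: in a group with trivial radical, closed connected normal subgroups are topologically
  perfect;
* `map_rad`: the image of the radical under a surjective homomorphism is the radical.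
-/

set_option autoImplicit false

universe u

open Groth.Agent.Sga3B Groth.Agent.Sga3B.RG Groth.Agent.Sga3B.RG.BcPt
open Groth.Agent.Sga3B.Parab.BorelPts172 Groth.Agent.Sga3B.Parab.SolvPts172

namespace K916.RadMap

variable {K : Type u} [Field K] [IsAlgClosed K] {A C : Type u} [CommRing A] [HopfAlgebra K A]
  [Algebra.FiniteType K A] [CommRing C] [HopfAlgebra K C] [Algebra.FiniteType K C]

omit [IsAlgClosed K] [Algebra.FiniteType K A] in
/-- The centre of a normal subgroup is normal. -/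
lemma normal_center {G : Type*} [Group G] {H : Subgroup G} (hn : H.Normal) :
    (Subgroup.centralizer (H : Set G) ⊓ H).Normal := by
  refine ⟨fun z hz g => ⟨?_, hn.conj_mem z hz.2 g⟩⟩
  have hz1 := Subgroup.mem_centralizer_iff.1 hz.1
  refine Subgroup.mem_centralizer_iff.2 fun h hh => ?_
  have h1 := hz1 (g⁻¹ * h * g) (by simpa using hn.conj_mem h hh g⁻¹)
  have h2 : g * (g⁻¹ * h * g * z) * g⁻¹ = g * (z * (g⁻¹ * h * g)) * g⁻¹ := by rw [h1]
  calc h * (g * z * g⁻¹) = g * (g⁻¹ * h * g * z) * g⁻¹ := by group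
    _ = g * (z * (g⁻¹ * h * g)) * g⁻¹ := h2
    _ = g * z * g⁻¹ * h := by group

/-- Closed connected normal subgroups of a group with trivial radical are semisimple. -/
theorem isSsPt_quot [IsReduced A] (htriv : ∀ N : Subgroup (Pt K A), N.Normal → IsCCS N → N = ⊥)
    {H : Subgroup (Pt K A)} (hn : H.Normal) (hcl : IsCl (H : Set (Pt K A)))
    (hconn : IsConn (H : Set (Pt K A))) : IsSsPt K (A ⧸ vanIdeal (H : Set (Pt K A))) := by
  have hred : IsRedPt K A := fun N hN h1 h2 hu =>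
    htriv N hN (K493.SolvU.isCCS_of_isUnip h1 h2 hu)
  refine ⟨K216.NormalPts.isRedPt_of_normal hred hcl hn, fun T hTn hT => ?_⟩
  have hdom : IsDomain (A ⧸ vanIdeal (H : Set (Pt K A))) := by
    have : (vanIdeal (H : Set (Pt K A))).IsPrime := hconn
    infer_instance
  have hsurj : Function.Surjective (Bialgebra.Quotient.mkBialgHom (R := K) (vanIdeal (H : Set (Pt K A)))) :=
    Ideal.Quotient.mk_surjective
  set q := quotMap (K := K) (vanIdeal (H : Set (Pt K A))) with hq
  have hinj : Function.Injective q := quotMap_injective _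
  have hr : q.range = H := range_quotMap_vanIdeal H hcl
  have hc := Rigid.le_center_of_normal hT hTn isConn_univ
  have h1 : T.map q ≤ Subgroup.centralizer (H : Set (Pt K A)) ⊓ H := by
    rintro _ ⟨t, ht, rfl⟩
    refine ⟨Subgroup.mem_centralizer_iff.2 fun h hh => ?_, hr.le ⟨t, rfl⟩⟩
    obtain ⟨y, rfl⟩ := hr.ge hh
    rw [← map_mul, ← map_mul, (Subgroup.mem_center_iff.1 (hc ht)) y]
  have hZcl : IsCl ((Subgroup.centralizer (H : Set (Pt K A)) ⊓ H : Subgroup (Pt K A)) : Set (Pt K A)) :=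
    (isCl_centralizer _).inter hcl
  have h2 : idComp (Subgroup.centralizer (H : Set (Pt K A)) ⊓ H) = ⊥ := by
    refine htriv _ (normal_idComp hZcl (normal_center hn)) ⟨isCl_idComp _, isConn_idComp _, ?_⟩
    refine Group.isSolvable_of_comm fun x y => Subtype.ext ?_
    have hx' := idComp_le hZcl x.2
    have hy' := idComp_le hZcl y.2
    exact (Subgroup.mem_centralizer_iff.1 hx'.1 y hy'.2).symm
  have h3 : T.map q = ⊥ := by
    refine le_bot_iff.1 ?_
    rw [← h2]
    exact le_idComp (((isTorusSub_map_iff hsurj).2 hT).isConn) h1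
  rwa [Subgroup.map_eq_bot_iff_of_injective _ hinj] at h3

/-- In a group with trivial radical, closed connected normal subgroups are topologically perfect. -/
theorem le_clSub_of_trivial_rad [IsReduced A]
    (htriv : ∀ N : Subgroup (Pt K A), N.Normal → IsCCS N → N = ⊥)
    {N : Subgroup (Pt K A)} (hN : N.Normal) (hcl : IsCl (N : Set (Pt K A)))
    (hconn : IsConn (N : Set (Pt K A))) : N ≤ clSub ⁅N, N⁆ := by
  have h0 := range_quotMap_vanIdeal N hcl
  have hdom : IsDomain (A ⧸ vanIdeal (N : Set (Pt K A))) :=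
    (Ideal.Quotient.isDomain_iff_prime _).2 hconn
  have h1 := K493.PerfImg.clSub_commutator_top (isSsPt_quot htriv hN hcl hconn)
  have h2 : N = (clSub ⁅(⊤ : Subgroup (Pt K (A ⧸ vanIdeal (N : Set (Pt K A))))), ⊤⁆).map
      (quotMap (vanIdeal (N : Set (Pt K A)))) := by
    rw [h1, ← MonoidHom.range_eq_map, h0]
  have h3 : (⁅(⊤ : Subgroup (Pt K (A ⧸ vanIdeal (N : Set (Pt K A))))), ⊤⁆ : Subgroup _).map
      (quotMap (vanIdeal (N : Set (Pt K A)))) = ⁅N, N⁆ := by
    rw [Subgroup.map_commutator, ← MonoidHom.range_eq_map, h0]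
  calc N = _ := h2
    _ ≤ clSub _ := K493.PerfImg.map_clSub_le _ _
    _ = clSub ⁅N, N⁆ := by rw [← h3]

/-- **The image of the radical under a surjective homomorphism is the radical.** -/
theorem map_rad [IsReduced A] [IsReduced C] (φ : C →ₐc[K] A) (hφ : Function.Surjective (Pt.map φ))
    {R : Subgroup (Pt K A)} (hR : K494.RadPt.IsRad R) {R' : Subgroup (Pt K C)}
    (hR' : K494.RadPt.IsRad R') : R.map (Pt.map φ) = R' := by
  have hRn := hR.normal
  have hW : IsCCS (R.map (Pt.map φ)) := Groth.Agent.Agf.H593.UnipRad.isCCS_map φ hR.ccs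
  have hWn : (R.map (Pt.map φ)).Normal := hRn.map _ hφ
  refine le_antisymm (hR'.le _ hWn hW) ?_
  -- the part of the inverse image of `R'`
  have hPcl : IsCl ((R'.comap (Pt.map φ) : Subgroup (Pt K A)) : Set (Pt K A)) :=
    hR'.ccs.isCl.preimage_map φ
  have hmap : (R'.comap (Pt.map φ)).map (Pt.map φ) = R' :=
    Subgroup.map_comap_eq_self_of_surjective hφ R'
  set N := idComp (R'.comap (Pt.map φ)) with hNdef
  have hNmap : N.map (Pt.map φ) = R' := by
    rw [hNdef, Groth.Agent.Agf.H593.UnipRad.map_idComp φ hPcl (by rw [hmap]; exact hR'.ccs.isConn), hmap]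
  have hNn : N.Normal := normal_idComp hPcl (hR'.normal.comap _)
  -- the quotient by the radical
  obtain ⟨A₁, _, _, φ₁, hA₁, hinj₁, hs₁, hker₁⟩ :=
    Groth.Agent.Agf.H593.QuotPt.exists_quotient R hR.ccs.isCl hRn
  have hred₁ : IsReduced A₁ := isReduced_of_injective (φ₁ : A₁ →+* A) hinj₁
  have htriv : ∀ M : Subgroup (Pt K A₁), M.Normal → IsCCS M → M = ⊥ := fun M h1 h2 =>
    K494.RadPt.eq_bot_of_isRad_ker φ₁ hs₁ (hker₁ ▸ hR) h1 h2
  have hMcl : IsCl ((N.map (Pt.map φ₁) : Subgroup (Pt K A₁)) : Set (Pt K A₁)) :=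
    Groth.Agent.Agf.H593.QuotPt.isCl_map φ₁ (isCl_idComp _)
  have hMconn : IsConn ((N.map (Pt.map φ₁) : Subgroup (Pt K A₁)) : Set (Pt K A₁)) := by
    rw [Subgroup.coe_map]
    exact (isConn_idComp (R'.comap (Pt.map φ))).image_map φ₁
  have hperf := le_clSub_of_trivial_rad htriv (hNn.map _ hs₁) hMcl hMconn
  -- `N` is contained in the closure of `[N, N] R`
  have hNY : N ≤ clSub (⁅N, N⁆ ⊔ R) := by
    have h1 : clSub ⁅N.map (Pt.map φ₁), N.map (Pt.map φ₁)⁆ ≤ (clSub (⁅N, N⁆ ⊔ R)).map (Pt.map φ₁) := by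
      refine clSub_le ?_ (Groth.Agent.Agf.H593.QuotPt.isCl_map φ₁ (isCl_clSub _))
      rw [← Subgroup.map_commutator]
      exact Subgroup.map_mono (le_sup_left.trans (le_clSub _))
    intro n hn
    obtain ⟨y, hy, hyn⟩ := h1 (hperf ⟨n, hn, rfl⟩)
    have h2 : y⁻¹ * n ∈ (Pt.map φ₁).ker := by
      rw [MonoidHom.mem_ker, map_mul, map_inv, hyn, inv_mul_cancel]
    rw [hker₁] at h2
    have h3 := (clSub (⁅N, N⁆ ⊔ R)).mul_mem hy ((le_sup_right.trans (le_clSub _)) h2)
    rwa [mul_inv_cancel_left] at h3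
  have hR'Y : R' ≤ clSub (⁅R', R'⁆ ⊔ R.map (Pt.map φ)) := by
    calc R' = N.map (Pt.map φ) := hNmap.symm
      _ ≤ (clSub (⁅N, N⁆ ⊔ R)).map (Pt.map φ) := Subgroup.map_mono hNY
      _ ≤ clSub ((⁅N, N⁆ ⊔ R).map (Pt.map φ)) := K493.PerfImg.map_clSub_le _ _
      _ = _ := by rw [Subgroup.map_sup, Subgroup.map_commutator, hNmap]
  -- the quotient by the image
  obtain ⟨C₁, _, _, ψ, hC₁, hinj₂, hs₂, hker₂⟩ :=
    Groth.Agent.Agf.H593.QuotPt.exists_quotient (R.map (Pt.map φ)) hW.isCl hWn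
  have h4 : R'.map (Pt.map ψ) = ⊥ := by
    refine K493.PerfImg.eq_bot_of_perfect (Groth.Agent.Agf.H593.QuotPt.isCl_map ψ hR'.ccs.isCl) ?_
      (Groth.Agent.Agf.H593.UnipRad.isCCS_map ψ hR'.ccs).isSolvable
    have hb : (R.map (Pt.map φ)).map (Pt.map ψ) = ⊥ := by
      rw [eq_bot_iff]
      rintro _ ⟨x, hx, rfl⟩
      rw [← hker₂] at hx
      exact hx
    calc R'.map (Pt.map ψ) ≤ (clSub (⁅R', R'⁆ ⊔ R.map (Pt.map φ))).map (Pt.map ψ) := Subgroup.map_mono hR'Y
      _ ≤ clSub ((⁅R', R'⁆ ⊔ R.map (Pt.map φ)).map (Pt.map ψ)) := K493.PerfImg.map_clSub_le _ _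
      _ = _ := by rw [Subgroup.map_sup, Subgroup.map_commutator, hb, sup_bot_eq]
  intro x hx
  have h5 : Pt.map ψ x ∈ R'.map (Pt.map ψ) := ⟨x, hx, rfl⟩
  rw [h4, Subgroup.mem_bot, ← MonoidHom.mem_ker, hker₂] at h5
  exact h5

end K916.RadMap
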